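import Groth.Agent.LocCohLib.NonVanishing
import Groth.Agent.LocCohLib.Grothendieck
import Groth.Agent.LocCohLib.DualityReg
import Groth.Agent.MatlisLib.Local

/-!
Top local cohomology of a Noetherian local ring and modules dual to it (canonical modules).
-/

set_option autoImplicit false
set_option linter.style.haveILetI false
universe u

open CategoryTheory
open scoped Pointwise

namespace Groth.Agent.CanonMod

variable {R : Type u} [CommRing R] [IsLocalRing R] [IsNoetherianRing R]

local notation "𝔪" => IsLocalRing.maximalIdeal R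

/-- Local cohomology at the closed point. -/
noncomputable abbrev Hm (i : ℕ) (M : ModuleCat.{u} R) : ModuleCat.{u} R := (localCohomology 𝔪 i).obj M

theorem subsingleton_Hm {M : Type u} [AddCommGroup M] [Module R M] {i : ℕ}
    (h : Module.supportDim R M < (i : WithBot ℕ∞)) : Subsingleton (Hm i (ModuleCat.of R M)) :=
  LocCohLib.subsingleton_of_dimLt 𝔪 i _ (LocCohLib.DimLt.of_supportDim h)

/-- Top local cohomology is right exact. -/
theorem map_surjective {n : ℕ} (hn : ringKrullDim R ≤ n) {M N : ModuleCat.{u} R} (π : M ⟶ N)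
    (hπ : Function.Surjective π) : Function.Surjective ((localCohomology 𝔪 n).map π) := by
  let C : ShortComplex (ModuleCat.{u} R) := ShortComplex.mk (X₁ := ModuleCat.of R (LinearMap.ker π.hom))
    (ModuleCat.ofHom (LinearMap.ker π.hom).subtype) π (ModuleCat.hom_ext (LinearMap.ext fun z => z.2))
  have hC : C.ShortExact :=
    { exact := (ShortComplex.moduleCat_exact_iff _).2 fun z hz => ⟨⟨z, hz⟩, rfl⟩
      mono_f := (ModuleCat.mono_iff_injective _).2 Subtype.val_injective
      epi_g := (ModuleCat.epi_iff_surjective _).2 hπ }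
  haveI := subsingleton_Hm (M := LinearMap.ker π.hom) (i := n + 1) ((Module.supportDim_le_ringKrullDim R _).trans_lt
    (hn.trans_lt (by exact_mod_cast n.lt_succ_self)))
  exact fun w => LocCohLib.exact₃ hC w (Subsingleton.elim (α := Hm (n + 1) (ModuleCat.of R (LinearMap.ker π.hom))) _ _)

theorem supportDim_le_quotient {M : Type u} [AddCommGroup M] [Module R M] [Module.Finite R M] (J : Ideal R)
    (h : J ≤ Module.annihilator R M) : Module.supportDim R M ≤ ringKrullDim (R ⧸ J) := by
  rw [Module.supportDim_eq_ringKrullDim_quotient_annihilator]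
  exact ringKrullDim_le_of_surjective (Ideal.Quotient.factor h) (Ideal.Quotient.factor_surjective h)

theorem annihilator_quotient_le (J : Ideal R) (M : Type u) [AddCommGroup M] [Module R M] :
    J ≤ Module.annihilator R (M ⧸ (J • (⊤ : Submodule R M))) := fun a ha => Module.mem_annihilator.2 fun z => by
  obtain ⟨z, rfl⟩ := Submodule.Quotient.mk_surjective _ z
  rw [← Submodule.Quotient.mk_smul, Submodule.Quotient.mk_eq_zero]
  exact Submodule.smul_mem_smul ha trivial

/-- Multiplication by `a` is surjective on top local cohomology when `M/aM` is small. -/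
theorem smul_surjective {n : ℕ} (M : Type u) [AddCommGroup M] [Module R M] [Module.Finite R M]
    (hn : Module.supportDim R M ≤ n) (a : R) (ha : Module.supportDim R (M ⧸ LinearMap.range (a • LinearMap.id : M →ₗ[R] M)) < n) :
    Function.Surjective fun z : Hm n (ModuleCat.of R M) => a • z := by
  let m : M →ₗ[R] M := a • LinearMap.id
  let C : ShortComplex (ModuleCat.{u} R) := ShortComplex.mk (ModuleCat.ofHom (LinearMap.range m).subtype)
    (ModuleCat.ofHom (LinearMap.range m).mkQ)
    (ModuleCat.hom_ext (LinearMap.ext fun z => (Submodule.Quotient.mk_eq_zero _).2 z.2))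
  have hC : C.ShortExact :=
    { exact := (ShortComplex.ShortExact.moduleCat_exact_iff_function_exact _).2 (LinearMap.exact_subtype_mkQ _)
      mono_f := (ModuleCat.mono_iff_injective _).2 Subtype.val_injective
      epi_g := (ModuleCat.epi_iff_surjective _).2 (Submodule.mkQ_surjective _) }
  let π : ModuleCat.of R M ⟶ ModuleCat.of R (LinearMap.range m) := ModuleCat.ofHom m.rangeRestrict
  let K : ShortComplex (ModuleCat.{u} R) := ShortComplex.mk (ModuleCat.ofHom (LinearMap.ker m).subtype) π
    (ModuleCat.hom_ext (LinearMap.ext fun z => Subtype.ext z.2))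
  have hK : K.ShortExact :=
    { exact := (ShortComplex.moduleCat_exact_iff _).2 fun z hz => ⟨⟨z, congrArg Subtype.val hz⟩, rfl⟩
      mono_f := (ModuleCat.mono_iff_injective _).2 Subtype.val_injective
      epi_g := (ModuleCat.epi_iff_surjective _).2 m.surjective_rangeRestrict }
  intro w
  haveI h0 := subsingleton_Hm ha
  obtain ⟨v, hv⟩ := LocCohLib.exact₂ (I := 𝔪) hC w (Subsingleton.elim (α := Hm n (ModuleCat.of R (M ⧸ LinearMap.range m))) _ _)
  haveI h1 := subsingleton_Hm (M := LinearMap.ker m) (i := n + 1)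
    (((Module.supportDim_le_of_injective (LinearMap.ker m).subtype Subtype.val_injective).trans hn).trans_lt
      (by exact_mod_cast n.lt_succ_self))
  obtain ⟨z, hz⟩ := LocCohLib.exact₃ (I := 𝔪) hK v (Subsingleton.elim (α := Hm (n + 1) (ModuleCat.of R (LinearMap.ker m))) _ _)
  refine ⟨z, ?_⟩
  have h2 := LocCohLib.map_smul_H 𝔪 n a (𝟙 (ModuleCat.of R M)) z
  rw [CategoryTheory.Functor.map_id, show a • 𝟙 (ModuleCat.of R M) = π ≫ C.f from rfl, Functor.map_comp,
    ModuleCat.comp_apply] at h2
  rw [hz, hv] at h2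
  exact h2.symm

/-- The dimension of a quotient is bounded by the number of further parameters. -/
theorem ringKrullDim_quotient_le_card (J : Ideal R) (hJ : J ≤ 𝔪) (s : Finset R) (hs : ∀ a ∈ s, a ∈ 𝔪)
    (hrad : 𝔪 ≤ (J ⊔ Ideal.span (s : Set R)).radical) : ringKrullDim (R ⧸ J) ≤ s.card := by
  classical
  haveI : Nontrivial (R ⧸ J) := Ideal.Quotient.nontrivial_iff.2
    (ne_top_of_le_ne_top (IsLocalRing.maximalIdeal.isMaximal R).ne_top hJ)
  haveI : IsLocalRing (R ⧸ J) := IsLocalRing.of_surjective' (Ideal.Quotient.mk J) Ideal.Quotient.mk_surjective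
  have hmap : (𝔪).map (Ideal.Quotient.mk J) = IsLocalRing.maximalIdeal (R ⧸ J) :=
    IsLocalRing.eq_maximalIdeal (Ideal.IsMaximal.map_of_surjective_of_ker_le Ideal.Quotient.mk_surjective
      (by rw [Ideal.mk_ker]; exact hJ))
  have hmin : IsLocalRing.maximalIdeal (R ⧸ J) ∈
      (Ideal.span ((s.image (Ideal.Quotient.mk J) : Finset (R ⧸ J)) : Set (R ⧸ J))).minimalPrimes := by
    refine ⟨⟨inferInstance, Ideal.span_le.2 ?_⟩, fun q hq _ => ?_⟩
    · intro b hb
      obtain ⟨a, ha, rfl⟩ := Finset.mem_image.1 (Finset.mem_coe.1 hb)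
      exact hmap ▸ Ideal.mem_map_of_mem _ (hs a ha)
    · haveI := hq.1
      rw [← hmap, Ideal.map_le_iff_le_comap]
      refine hrad.trans ((Ideal.IsPrime.radical_le_iff inferInstance).2 (sup_le (fun b hb => ?_) (Ideal.span_le.2 fun b hb => ?_)))
      · rw [Ideal.mem_comap, Ideal.Quotient.eq_zero_iff_mem.2 hb]
        exact zero_mem _
      · exact hq.2 (Ideal.subset_span (Finset.mem_coe.2 (Finset.mem_image_of_mem _ (Finset.mem_coe.1 hb))))
  rw [← IsLocalRing.maximalIdeal_height_eq_ringKrullDim]
  refine le_trans (WithBot.coe_le_coe.2 (Ideal.height_le_card_of_mem_minimalPrimes_span_finset hmin)) ?_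
  exact_mod_cast Finset.card_image_le

omit [IsLocalRing R] [IsNoetherianRing R] in
/-- A prime of maximal coheight is minimal. -/
theorem le_of_quotient_dim {n : ℕ} (hn : ringKrullDim R = n) {q q' : Ideal R} [q.IsPrime] [q'.IsPrime]
    (hq : ringKrullDim (R ⧸ q) = n) (hle : q' ≤ q) : q ≤ q' := by
  by_contra hne
  have hk := hq.ge
  rw [ringKrullDim_quotient, Order.le_krullDim_iff] at hk
  obtain ⟨l, hl⟩ := hk
  let L : LTSeries (PrimeSpectrum R) := l.map Subtype.val fun _ _ h => h
  have hh : (⟨q', inferInstance⟩ : PrimeSpectrum R) < L.head := by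
    refine lt_of_lt_of_le (b := (⟨q, inferInstance⟩ : PrimeSpectrum R)) ?_ (show q ≤ l.head.1.asIdeal from l.head.2)
    exact lt_of_le_not_ge hle hne
  have h := Order.LTSeries.length_le_krullDim (L.cons _ hh)
  rw [show (L.cons _ hh).length = l.length + 1 by
    show 0 + l.length + 1 = l.length + 1
    omega] at h
  change ((l.length + 1 : ℕ) : WithBot ℕ∞) ≤ ringKrullDim R at h
  rw [hl, hn, Nat.cast_le] at h
  omega

omit [IsLocalRing R] [IsNoetherianRing R] in
/-- Killing by an element outside the primes of maximal coheight lowers the dimension. -/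
theorem ringKrullDim_quotient_span_lt {n : ℕ} (hn : ringKrullDim R = n) (a : R)
    (h : ∀ q : Ideal R, q.IsPrime → a ∈ q → ringKrullDim (R ⧸ q) ≠ n) : ringKrullDim (R ⧸ Ideal.span {a}) < n := by
  refine lt_of_le_of_ne (hn ▸ ringKrullDim_quotient_le _) fun he => ?_
  have hk := he.ge
  rw [ringKrullDim_quotient, Order.le_krullDim_iff] at hk
  obtain ⟨l, hl⟩ := hk
  refine h l.head.1.asIdeal l.head.1.2 (l.head.2 (Ideal.mem_span_singleton_self a)) (le_antisymm (hn ▸ ringKrullDim_quotient_le _) ?_)
  rw [ringKrullDim_quotient, Order.le_krullDim_iff]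
  exact ⟨⟨l.length, fun i => ⟨(l i).1, show l.head.1.asIdeal ≤ (l i).1.asIdeal from l.monotone i.zero_le⟩,
    fun i => l.step i⟩, hl⟩

variable {E : Type u} [AddCommGroup E] [Module R E] {f : IsLocalRing.ResidueField R →ₗ[R] E}

omit [IsNoetherianRing R] in
/-- Divisible duals give regular elements. -/
theorem isSMulRegular_of_dual_surjective (hf : InjHull.IsInjectiveHull f) {K : Type u} [AddCommGroup K]
    [Module R K] (a : R) (h : ∀ φ : K →ₗ[R] E, ∃ ψ : K →ₗ[R] E, a • ψ = φ) : IsSMulRegular K a := by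
  rw [isSMulRegular_iff_right_eq_zero_of_smul]
  intro x hx
  refine MatlisLib.applyₗ_injective hf (LinearMap.ext fun φ => ?_)
  obtain ⟨ψ, rfl⟩ := h φ
  rw [map_zero, LinearMap.zero_apply, LinearMap.applyₗ_apply_apply, LinearMap.smul_apply, ← map_smul, hx, map_zero]

/-- A canonical module dual to top local cohomology is nonzero. -/
theorem nontrivial_of_dual {n : ℕ} (hn : ringKrullDim R = n) {K : Type u} [AddCommGroup K] [Module R K]
    (eK : (K →ₗ[R] E) ≃ₗ[R] LocCoh.H 𝔪 n R) : Nontrivial K := by
  by_contra hK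
  rw [not_nontrivial_iff_subsingleton] at hK
  haveI : Subsingleton (LocCoh.H 𝔪 n R) := eK.symm.injective.subsingleton
  have := LocCohLib.nontrivial_H_supportDim (ModuleCat.of R R) n (by rw [Module.supportDim_self_eq_ringKrullDim, hn])
  exact not_subsingleton (Hm n (ModuleCat.of R R)) ‹Subsingleton (LocCoh.H 𝔪 n R)›

/-- Parameters are regular on the canonical module. -/
theorem isSMulRegular_of_dim_lt {n : ℕ} (hn : ringKrullDim R = n) (hf : InjHull.IsInjectiveHull f)
    {K : Type u} [AddCommGroup K] [Module R K] (eK : (K →ₗ[R] E) ≃ₗ[R] LocCoh.H 𝔪 n R) (a : R)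
    (ha : ringKrullDim (R ⧸ Ideal.span {a}) < n) : IsSMulRegular K a := by
  refine isSMulRegular_of_dual_surjective hf a fun φ => ?_
  obtain ⟨z, hz⟩ := smul_surjective (n := n) R (by rw [Module.supportDim_self_eq_ringKrullDim, hn]) a
    (lt_of_le_of_lt (supportDim_le_quotient _ fun r hr => Module.mem_annihilator.2 fun w => by
      obtain ⟨w, rfl⟩ := Submodule.Quotient.mk_surjective _ w
      obtain ⟨c, rfl⟩ := Ideal.mem_span_singleton'.1 hr
      rw [← Submodule.Quotient.mk_smul, Submodule.Quotient.mk_eq_zero]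
      exact ⟨c * w, by rw [LinearMap.smul_apply, LinearMap.id_apply, smul_eq_mul, smul_eq_mul]; ring⟩) ha) (eK φ)
  exact ⟨eK.symm z, by rw [← map_smul]; exact (congrArg eK.symm hz).trans (eK.symm_apply_apply φ)⟩

end Groth.Agent.CanonMod
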