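import Groth.Agent.CanonMod.Pairing
import Groth.Agent.LocCohLib.ExtVanishing

/-!
Local duality over a Cohen–Macaulay local ring with a canonical module.
-/

set_option autoImplicit false
set_option linter.style.haveILetI false
set_option linter.unusedVariables false
universe u

open CategoryTheory CategoryTheory.Limits
open CategoryTheory.Abelian (Ext)
open scoped Pointwise

namespace Groth.Agent.CanonMod

variable {R : Type u} [CommRing R] [LocCoh.IsCohenMacaulayLocalRing R]

local notation "𝔪" => IsLocalRing.maximalIdeal R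

theorem depth_eq {n : ℕ} (hn : ringKrullDim R = n) : LocCoh.depth R R = n := by
  have h := LocCoh.IsCohenMacaulayLocalRing.supportDim_eq_depth (R := R)
  rw [Module.supportDim_self_eq_ringKrullDim, hn] at h
  exact_mod_cast h.symm

theorem subsingleton_H_self_lt {n : ℕ} (hn : ringKrullDim R = n) {i : ℕ} (h : i < n) :
    Subsingleton (Hm i (ModuleCat.of R R)) :=
  (LocCohLib.natCast_le_idealDepth_iff_vanishing 𝔪 R n).1 (depth_eq hn).ge i h

theorem subsingleton_H_free {n : ℕ} (hn : ringKrullDim R = n) (k : ℕ) {i : ℕ} (h : i < n) :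
    Subsingleton (Hm i (ModuleCat.of R (Fin k → R))) := by
  haveI := subsingleton_H_self_lt hn h
  let pr : Fin k → (ModuleCat.of R (Fin k → R) ⟶ ModuleCat.of R R) := fun j =>
    ModuleCat.ofHom (LinearMap.proj (R := R) (φ := fun _ : Fin k => R) j)
  let ι : Fin k → (ModuleCat.of R R ⟶ ModuleCat.of R (Fin k → R)) := fun j =>
    ModuleCat.ofHom (LinearMap.single R (fun _ : Fin k => R) j)
  have hid : (𝟙 (ModuleCat.of R (Fin k → R))) = ∑ j, pr j ≫ ι j := by
    refine ModuleCat.hom_ext (LinearMap.ext fun v => funext fun l => ?_)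
    rw [ModuleCat.hom_sum, LinearMap.sum_apply, Finset.sum_apply]
    simp [pr, ι, Pi.single_apply]
  refine subsingleton_of_forall_eq 0 fun w => ?_
  calc w = (localCohomology 𝔪 i).map (∑ j, pr j ≫ ι j) w := by
        rw [← hid, CategoryTheory.Functor.map_id]; rfl
    _ = 0 := by
        rw [map_sum_H]
        refine Finset.sum_eq_zero fun j _ => ?_
        rw [Functor.map_comp, ModuleCat.comp_apply,
          Subsingleton.elim (α := Hm i (ModuleCat.of R R)) ((localCohomology 𝔪 i).map (pr j) w) 0, map_zero]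

theorem subsingleton_ext_free (k : ℕ) (N : ModuleCat.{u} R) {j : ℕ} :
    Subsingleton (Ext (ModuleCat.of R (Fin k → R)) N (j + 1)) := by
  haveI : Projective (ModuleCat.of R (Fin k → R)) := ModuleCat.projective_of_categoryTheory_projective
    (P := ModuleCat.of R (Fin k → R))
  exact subsingleton_of_forall_eq 0 Ext.eq_zero_of_projective

variable {n : ℕ} (hn : ringKrullDim R = n) {E : Type u} [AddCommGroup E] [Module R E] {K : Type u}
  [AddCommGroup K] [Module R K] [Module.Finite R K] (eK : (K →ₗ[R] E) ≃ₗ[R] LocCoh.H (IsLocalRing.maximalIdeal R) n R)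
  (hE : Module.Injective R E)
include hn eK hE

/-- Duality: `H^i_m(M) ≅ Hom(Ext^j(M, K), E)` for `i + j = n`. -/
theorem nonempty_duality : ∀ (j i : ℕ), i + j = n → ∀ (M : ModuleCat.{u} R) [Module.Finite R M],
    Nonempty ((localCohomology 𝔪 i).obj M ≃ₗ[R]
      (Ext M (ModuleCat.of R K) j →ₗ[R] E)) := by
  intro j
  induction j with
  | zero =>
    intro i hi M _
    obtain rfl : i = n := by omega
    obtain ⟨ε, hε⟩ := exists_eps eK hn
    exact ⟨(LinearEquiv.ofBijective _ (bijective_pair eK hn hE hε M)).trans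
      ((Ext.linearEquiv₀.trans ModuleCat.homLinearEquiv).symm.arrowCongr (LinearEquiv.refl R _))⟩
  | succ j ih =>
    intro i hi M _
    obtain ⟨k, π, hπ⟩ := Module.Finite.exists_fin' R M
    let C : ShortComplex (ModuleCat.{u} R) :=
      ShortComplex.mk (X₁ := ModuleCat.of R (LinearMap.ker π)) (X₂ := ModuleCat.of R (Fin k → R)) (X₃ := M)
        (ModuleCat.ofHom (LinearMap.ker π).subtype) (ModuleCat.ofHom (Y := M) π)
        (ModuleCat.hom_ext (LinearMap.ext fun x => x.2))
    have hC : C.ShortExact :=
      { exact := (ShortComplex.ShortExact.moduleCat_exact_iff_function_exact _).2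
          (LinearMap.exact_subtype_ker_map π)
        mono_f := (ModuleCat.mono_iff_injective _).2 Subtype.val_injective
        epi_g := (ModuleCat.epi_iff_surjective _).2 hπ }
    haveI : Module.Finite R C.X₁ := Module.Finite.iff_fg.2 (IsNoetherian.noetherian (LinearMap.ker π))
    let dE : Ext C.X₁ (ModuleCat.of R K) j →ₗ[R] Ext M (ModuleCat.of R K) (j + 1) :=
      hC.extClass.precompOfLinear R (ModuleCat.of R K) (add_comm 1 j)
    have hdsurj : Function.Surjective dE := fun y => by
      haveI := subsingleton_ext_free (R := R) k (ModuleCat.of R K) (j := j)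
      exact Ext.contravariant_sequence_exact₃ hC (ModuleCat.of R K) y (Subsingleton.elim _ _) (add_comm 1 j)
    let T : (Ext M (ModuleCat.of R K) (j + 1) →ₗ[R] E) →ₗ[R] (Ext C.X₁ (ModuleCat.of R K) j →ₗ[R] E) :=
      LinearMap.lcomp R E dE
    have hTinj : Function.Injective T := fun a b h => LinearMap.ext fun y => by
      obtain ⟨x, rfl⟩ := hdsurj y
      exact LinearMap.congr_fun h x
    have hδinj : Function.Injective (LocCohLib.δ hC 𝔪 i) := (injective_iff_map_eq_zero _).2 fun w hw => by
      obtain ⟨v, rfl⟩ := LocCohLib.exact₃ hC w hw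
      haveI := subsingleton_H_free hn k (i := i) (by omega)
      exact (congrArg _ (Subsingleton.elim (α := (localCohomology 𝔪 i).obj C.X₂) v 0)).trans (map_zero _)
    obtain ⟨eX⟩ := ih (i + 1) (by omega) C.X₁
    -- correct the identification when `j = 0`
    cases j with
    | succ j =>
      haveI := subsingleton_ext_free (R := R) k (ModuleCat.of R K) (j := j)
      have hδsurj : Function.Surjective (LocCohLib.δ hC 𝔪 i) := fun w =>
        LocCohLib.exact₁ hC w (by
          haveI := subsingleton_H_free hn k (i := i + 1) (by omega)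
          exact Subsingleton.elim (α := (localCohomology 𝔪 (i + 1)).obj C.X₂) _ _)
      have hdinj : Function.Injective dE := (injective_iff_map_eq_zero _).2 fun x hx => by
        obtain ⟨x₂, rfl⟩ := Ext.contravariant_sequence_exact₁ hC (ModuleCat.of R K) x (add_comm 1 (j + 1)) hx
        rw [Subsingleton.elim x₂ 0, Ext.comp_zero]
      exact ⟨(LinearEquiv.ofBijective (LocCohLib.δ hC 𝔪 i) ⟨hδinj, hδsurj⟩).trans (eX.trans
        ((LinearEquiv.ofBijective dE ⟨hdinj, hdsurj⟩).arrowCongr (LinearEquiv.refl R E)))⟩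
    | zero =>
      obtain rfl : i + 1 = n := by omega
      obtain ⟨ε, hε⟩ := exists_eps eK hn
      let θ := LinearEquiv.ofBijective _ (bijective_pair eK hn hE hε C.X₁)
      let c := (Ext.linearEquiv₀ (R := R) (X := C.X₁) (Y := ModuleCat.of R K)).trans ModuleCat.homLinearEquiv
      let Φ : (localCohomology 𝔪 i).obj M →ₗ[R] (Ext C.X₁ (ModuleCat.of R K) 0 →ₗ[R] E) :=
        (c.symm.arrowCongr (LinearEquiv.refl R E)).toLinearMap ∘ₗ θ.toLinearMap ∘ₗ LocCohLib.δ hC 𝔪 i
      have hΦinj : Function.Injective Φ :=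
        (c.symm.arrowCongr (LinearEquiv.refl R E)).injective.comp (θ.injective.comp hδinj)
      have hΦ : ∀ w x, Φ w x = pair ε C.X₁ (LocCohLib.δ hC 𝔪 i w) (c x) := fun w x => rfl
      have hrange : LinearMap.range Φ = LinearMap.range T := by
        refine le_antisymm ?_ ?_
        · rintro _ ⟨w, rfl⟩
          have h0 : LinearMap.ker dE ≤ LinearMap.ker (Φ w) := fun x hx => by
            obtain ⟨x₂, rfl⟩ := Ext.contravariant_sequence_exact₁ hC (ModuleCat.of R K) x (add_comm 1 0) hx
            obtain ⟨φ, rfl⟩ := (Ext.mk₀_bijective _ _).2 x₂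
            rw [LinearMap.mem_ker, hΦ, show c ((Ext.mk₀ C.f).comp (Ext.mk₀ φ) (zero_add 0)) = ((C.f ≫ φ).hom : C.X₁ →ₗ[R] K) from by
              refine c.symm.injective ?_
              rw [LinearEquiv.symm_apply_apply, Ext.mk₀_comp_mk₀]
              rfl]
            refine (pair_natural ε C.f (LocCohLib.δ hC 𝔪 i w) φ.hom).symm.trans ?_
            rw [LocCohLib.map_δ_eq_zero hC w, map_zero]
            rfl
          refine ⟨(LinearMap.ker dE).liftQ (Φ w) h0 ∘ₗ (LinearMap.quotKerEquivOfSurjective dE hdsurj).symm.toLinearMap,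
            LinearMap.ext fun x => ?_⟩
          show (LinearMap.ker dE).liftQ (Φ w) h0 ((LinearMap.quotKerEquivOfSurjective dE hdsurj).symm (dE x)) = _
          rw [LinearMap.quotKerEquivOfSurjective_symm_apply]
          exact Submodule.liftQ_apply _ _ x
        · rintro _ ⟨ψ, rfl⟩
          obtain ⟨v, hv⟩ := (c.symm.arrowCongr (LinearEquiv.refl R E)).surjective (T ψ)
          obtain ⟨u, rfl⟩ := θ.surjective v
          obtain ⟨w, hw⟩ := LocCohLib.exact₁ hC u (by
            refine (bijective_pair eK hn hE hε (ModuleCat.of R (Fin k → R))).1 ?_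
            rw [map_zero]
            refine LinearMap.ext fun φ => ?_
            refine (pair_natural ε C.f u φ).trans ?_
            have h1 := LinearMap.congr_fun hv (c.symm (φ ∘ₗ C.f.hom))
            have h2 : pair ε C.X₁ u (φ ∘ₗ C.f.hom) = T ψ (c.symm (φ ∘ₗ C.f.hom)) := by
              refine Eq.trans ?_ h1
              show θ u (φ ∘ₗ C.f.hom) = θ u (c (c.symm (φ ∘ₗ C.f.hom)))
              rw [LinearEquiv.apply_symm_apply]
            rw [h2]
            show ψ (dE (c.symm (φ ∘ₗ C.f.hom))) = 0
            rw [show c.symm (φ ∘ₗ C.f.hom) = (Ext.mk₀ C.f).comp (Ext.mk₀ (ModuleCat.ofHom (Y := K) φ)) (zero_add 0) from by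
              rw [Ext.mk₀_comp_mk₀]
              rfl]
            exact (congrArg ψ (hC.extClass_comp_assoc (Ext.mk₀ (ModuleCat.ofHom (Y := K) φ)) (h := add_comm 1 0))).trans (map_zero ψ))
          exact ⟨w, (congrArg (fun t => (c.symm.arrowCongr (LinearEquiv.refl R E)) (θ t)) hw).trans hv⟩
      exact ⟨(LinearEquiv.ofInjective Φ hΦinj).trans
        ((LinearEquiv.ofEq _ _ hrange).trans (LinearEquiv.ofInjective T hTinj).symm)⟩

end Groth.Agent.CanonMod
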