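import Groth.Agent.CanonMod.Duality
import Groth.Agent.GorLib.InjDim

/-!
A canonical module has injective dimension `dim R` and is Cohen–Macaulay.
-/

set_option autoImplicit false
set_option linter.style.haveILetI false
set_option linter.unusedVariables false
universe u

open CategoryTheory CategoryTheory.Limits
open CategoryTheory.Abelian (Ext)
open scoped Pointwise

namespace Groth.Agent.CanonMod

variable {R : Type u} [CommRing R] [LocCoh.IsCohenMacaulayLocalRing R]

local notation "𝔪" => IsLocalRing.maximalIdeal R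

theorem map_injective_zero {M N : ModuleCat.{u} R} (f : M ⟶ N) (hf : Function.Injective f) :
    Function.Injective ((localCohomology 𝔪 0).map f) := fun z z' h => by
  have h' := congrArg (LocCohLib.h0 𝔪 N) h
  rw [LocCohLib.h0_map, LocCohLib.h0_map] at h'
  exact LocCohLib.h0_injective (hf h')

theorem subsingleton_of_dual {E : Type u} [AddCommGroup E] [Module R E]
    {f : IsLocalRing.ResidueField R →ₗ[R] E} (hf : InjHull.IsInjectiveHull f) {M : Type u} [AddCommGroup M]
    [Module R M] (h : Subsingleton (M →ₗ[R] E)) : Subsingleton M :=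
  subsingleton_of_forall_eq 0 fun x => MatlisLib.applyₗ_injective hf (LinearMap.ext fun φ => by
    rw [Subsingleton.elim φ 0]; rfl)

theorem supportDim_residueField :
    Module.supportDim R (IsLocalRing.ResidueField R) = ((0 : ℕ) : WithBot ℕ∞) := by
  show Module.supportDim R (R ⧸ 𝔪) = _
  letI := Ideal.Quotient.field 𝔪
  rw [Module.supportDim_quotient_eq_ringKrullDim, ringKrullDim_eq_zero_of_field]
  rfl

variable {n : ℕ} (hn : ringKrullDim R = n) {E : Type u} [AddCommGroup E] [Module R E]
  {f : IsLocalRing.ResidueField R →ₗ[R] E} (hf : InjHull.IsInjectiveHull f) {K : Type u}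
  [AddCommGroup K] [Module R K] [Module.Finite R K]
  (eK : (K →ₗ[R] E) ≃ₗ[R] LocCoh.H (IsLocalRing.maximalIdeal R) n R)
include hn hf eK

/-- `Ext^j(M, K) = 0` when `H^{n-j}_m(M) = 0`. -/
theorem subsingleton_ext_of_H (M : ModuleCat.{u} R) [Module.Finite R M] {i j : ℕ} (hij : i + j = n)
    (h : Subsingleton (Hm i M)) : Subsingleton (Ext M (ModuleCat.of R K) j) := by
  obtain ⟨d⟩ := nonempty_duality hn eK hf.isInjective j i hij M
  exact subsingleton_of_dual hf d.symm.injective.subsingleton

/-- Above the dimension `Ext` into a canonical module vanishes. -/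
theorem subsingleton_ext_succ (M : ModuleCat.{u} R) [Module.Finite R M] :
    Subsingleton (Ext M (ModuleCat.of R K) (n + 1)) := by
  obtain ⟨k, π, hπ⟩ := Module.Finite.exists_fin' R M
  let C : ShortComplex (ModuleCat.{u} R) :=
    ShortComplex.mk (X₁ := ModuleCat.of R (LinearMap.ker π)) (X₂ := ModuleCat.of R (Fin k → R)) (X₃ := M)
      (ModuleCat.ofHom (LinearMap.ker π).subtype) (ModuleCat.ofHom (Y := M) π)
      (ModuleCat.hom_ext (LinearMap.ext fun x => x.2))
  have hC : C.ShortExact :=
    { exact := (ShortComplex.ShortExact.moduleCat_exact_iff_function_exact _).2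
        (LinearMap.exact_subtype_ker_map π)
      mono_f := (ModuleCat.mono_iff_injective _).2 Subtype.val_injective
      epi_g := (ModuleCat.epi_iff_surjective _).2 hπ }
  haveI : Module.Finite R C.X₁ := Module.Finite.iff_fg.2 (IsNoetherian.noetherian (LinearMap.ker π))
  haveI := subsingleton_ext_free (R := R) k (ModuleCat.of R K) (j := n)
  refine subsingleton_of_forall_eq 0 fun y => ?_
  obtain ⟨x, rfl⟩ := Ext.contravariant_sequence_exact₃ hC (ModuleCat.of R K) y (Subsingleton.elim _ _) (add_comm 1 n)
  rcases Nat.eq_zero_or_pos n with rfl | hpos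
  · obtain ⟨φ, rfl⟩ := (Ext.mk₀_bijective _ _).2 x
    obtain ⟨ε, hε⟩ := exists_eps eK hn
    let g : ((Fin k → R) →ₗ[R] K) →ₗ[R] (C.X₁ →ₗ[R] K) := LinearMap.lcomp R K (LinearMap.ker π).subtype
    have hg : LinearMap.range g = ⊤ := by
      by_contra hne
      obtain ⟨φ₀, hφ₀⟩ : ∃ φ₀, φ₀ ∉ LinearMap.range g := not_forall.1 fun h => hne (eq_top_iff.2 fun z _ => h z)
      obtain ⟨χ, hχ⟩ := MatlisLib.exists_dual_ne_zero_of_ne hf
        (show (LinearMap.range g).mkQ φ₀ ≠ 0 from fun h => hφ₀ ((Submodule.Quotient.mk_eq_zero _).1 h))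
      obtain ⟨w, hw⟩ := (bijective_pair eK hn hf.isInjective hε C.X₁).2 (χ ∘ₗ (LinearMap.range g).mkQ)
      have h0 : (localCohomology 𝔪 0).map C.f w = 0 := (bijective_pair eK hn hf.isInjective hε C.X₂).1 (by
        rw [map_zero]
        refine LinearMap.ext fun ψ => ?_
        rw [pair_natural, hw]
        show χ ((LinearMap.range g).mkQ (g ψ)) = 0
        rw [Submodule.mkQ_apply, (Submodule.Quotient.mk_eq_zero (LinearMap.range g)).2 (LinearMap.mem_range_self g ψ), map_zero])
      rw [map_injective_zero C.f Subtype.val_injective (h0.trans (map_zero _).symm), map_zero] at hw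
      exact hχ (LinearMap.congr_fun hw.symm φ₀)
    obtain ⟨ψ, hψ⟩ : φ.hom ∈ LinearMap.range g := hg ▸ trivial
    rw [show φ = C.f ≫ ModuleCat.ofHom (Y := K) ψ from ModuleCat.hom_ext hψ.symm, ← Ext.mk₀_comp_mk₀]
    exact hC.extClass_comp_assoc (Ext.mk₀ (ModuleCat.ofHom (Y := K) ψ)) (h := add_comm 1 0)
  · have h0 : Subsingleton (Hm 0 C.X₁) := by
      haveI := subsingleton_H_free hn k hpos
      exact (map_injective_zero C.f Subtype.val_injective).subsingleton
    haveI := subsingleton_ext_of_H hn hf eK C.X₁ (zero_add n) h0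
    rw [Subsingleton.elim x 0, Ext.comp_zero]

theorem injDim : HasInjectiveDimensionLT (ModuleCat.of R K) (n + 1) :=
  (ProjDim.injDim_iff_ext_quotient (ModuleCat.of R K) n).2 fun I => subsingleton_ext_succ hn hf eK (ModuleCat.of R (R ⧸ I))

theorem not_injDim : ¬ HasInjectiveDimensionLT (ModuleCat.of R K) n := fun h => by
  have hk := LocCohLib.nontrivial_H_supportDim (ModuleCat.of R (IsLocalRing.ResidueField R)) 0 supportDim_residueField
  obtain ⟨d⟩ := nonempty_duality hn eK hf.isInjective n 0 (zero_add n) (ModuleCat.of R (IsLocalRing.ResidueField R))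
  haveI := HasInjectiveDimensionLT.subsingleton (ModuleCat.of R K) n n le_rfl (ModuleCat.of R (IsLocalRing.ResidueField R))
  haveI : Subsingleton (Hm 0 (ModuleCat.of R (IsLocalRing.ResidueField R))) := d.injective.subsingleton
  exact not_subsingleton (Hm 0 (ModuleCat.of R (IsLocalRing.ResidueField R))) ‹_›

theorem depth_ge : (n : ℕ∞) ≤ LocCoh.depth R K := by
  refine (DepthLib.natCast_le_idealDepth_iff_ext 𝔪 K n).2 fun i hi => ?_
  exact subsingleton_ext_of_H hn hf eK (ModuleCat.of R (IsLocalRing.ResidueField R)) (i := n - i) (by omega)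
    (subsingleton_Hm (supportDim_residueField.trans_lt (by exact_mod_cast Nat.sub_pos_of_lt hi)))

theorem supportDim_eq : Module.supportDim R K = n := by
  haveI := nontrivial_of_dual hn eK
  refine le_antisymm ((Module.supportDim_le_ringKrullDim R K).trans hn.le) ?_
  exact le_trans (by exact_mod_cast depth_ge hn hf eK) (DepthLib.depth_le_supportDim K)

theorem depth_eq_self : LocCoh.depth R K = n := by
  haveI := nontrivial_of_dual hn eK
  refine le_antisymm ?_ (depth_ge hn hf eK)
  have h := DepthLib.depth_le_supportDim (R := R) K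
  rw [supportDim_eq hn hf eK] at h
  exact_mod_cast h

/-- Local cohomology of a canonical module below the top vanishes. -/
theorem subsingleton_H_canon {i : ℕ} (hi : i < n) : Subsingleton (Hm i (ModuleCat.of R K)) :=
  (LocCohLib.natCast_le_idealDepth_iff_vanishing 𝔪 K n).1 (depth_ge hn hf eK) i hi

end Groth.Agent.CanonMod
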