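import Groth.Agent.CanonMod.Basic

/-!
The pairing `H^n_m(M) × Hom(M, K) → E` attached to a canonical module `K` (a module with
`Hom(K, E) ≅ H^n_m(R)`).
-/

set_option autoImplicit false
set_option linter.style.haveILetI false
universe u

open CategoryTheory
open scoped Pointwise

namespace Groth.Agent.CanonMod

variable {R : Type u} [CommRing R] [IsLocalRing R] [IsNoetherianRing R] {n : ℕ}
  {E : Type u} [AddCommGroup E] [Module R E] {K : Type u} [AddCommGroup K] [Module R K]
  (eK : (K →ₗ[R] E) ≃ₗ[R] LocCoh.H (IsLocalRing.maximalIdeal R) n R)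

local notation "𝔪" => IsLocalRing.maximalIdeal R

omit [IsNoetherianRing R] in
lemma map_sum_H {M N : ModuleCat.{u} R} {k : ℕ} (g : Fin k → (M ⟶ N)) (w : (localCohomology 𝔪 n).obj M) :
    (localCohomology 𝔪 n).map (∑ i, g i) w = ∑ i, (localCohomology 𝔪 n).map (g i) w := by
  let a : (M ⟶ N) →+ (localCohomology 𝔪 n).obj N :=
    AddMonoidHom.mk' (fun h => (localCohomology 𝔪 n).map h w) fun h h' => LocCohLib.map_add_H 𝔪 n h h' w
  exact map_sum a g Finset.univ

/-- The pairing on free modules. -/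
noncomputable def Ψ (k : ℕ) :
    Hm n (ModuleCat.of R (Fin k → R)) →ₗ[R] (((Fin k → R) →ₗ[R] K) →ₗ[R] E) :=
  ∑ i, LinearMap.compl₂ (eK.symm.toLinearMap ∘ₗ
    ((localCohomology 𝔪 n).map (ModuleCat.ofHom (LinearMap.proj (R := R) (φ := fun _ : Fin k => R) i))).hom)
    (LinearMap.applyₗ (Pi.single (M := fun _ : Fin k => R) i 1))

omit [IsNoetherianRing R] in
lemma Ψ_apply {k : ℕ} (w : Hm n (ModuleCat.of R (Fin k → R))) (φ : (Fin k → R) →ₗ[R] K) :
    Ψ eK k w φ = ∑ i, eK.symm ((localCohomology 𝔪 n).map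
      (ModuleCat.ofHom (LinearMap.proj (R := R) (φ := fun _ : Fin k => R) i)) w) (φ (Pi.single i 1)) := by
  rw [Ψ, LinearMap.sum_apply, LinearMap.sum_apply]
  rfl

omit [IsNoetherianRing R] in
lemma Ψ_natural {k l : ℕ} (T : (Fin l → R) →ₗ[R] (Fin k → R)) (w : Hm n (ModuleCat.of R (Fin l → R)))
    (φ : (Fin k → R) →ₗ[R] K) :
    Ψ eK k ((localCohomology 𝔪 n).map (ModuleCat.ofHom T) w) φ = Ψ eK l w (φ ∘ₗ T) := by
  classical
  rw [Ψ_apply, Ψ_apply]
  have h1 : ∀ i, (localCohomology 𝔪 n).map (ModuleCat.ofHom (LinearMap.proj (R := R) (φ := fun _ : Fin k => R) i))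
      ((localCohomology 𝔪 n).map (ModuleCat.ofHom T) w) = ∑ j, T (Pi.single j 1) i •
        (localCohomology 𝔪 n).map (ModuleCat.ofHom (LinearMap.proj (R := R) (φ := fun _ : Fin l => R) j)) w := fun i => by
    rw [← ModuleCat.comp_apply, ← Functor.map_comp]
    rw [show ModuleCat.ofHom T ≫ ModuleCat.ofHom (LinearMap.proj (R := R) (φ := fun _ : Fin k => R) i) =
      ∑ j, T (Pi.single j 1) i • ModuleCat.ofHom (LinearMap.proj (R := R) (φ := fun _ : Fin l => R) j) from
        ModuleCat.hom_ext (LinearMap.pi_ext' fun j => LinearMap.ext_ring (by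
          rw [ModuleCat.hom_sum]
          simp [Pi.single_apply]))]
    rw [map_sum_H]
    exact Finset.sum_congr rfl fun j _ => LocCohLib.map_smul_H 𝔪 n _ _ w
  simp only [h1, map_sum, map_smul, LinearMap.sum_apply, LinearMap.smul_apply]
  rw [Finset.sum_comm]
  refine Finset.sum_congr rfl fun j _ => ?_
  simp only [← map_smul, ← map_sum, LinearMap.comp_apply]
  congr 2
  conv_rhs => rw [← Finset.univ_sum_single (T (Pi.single j 1))]
  exact Finset.sum_congr rfl fun i _ => by rw [← Pi.single_smul', smul_eq_mul, mul_one]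

omit [IsNoetherianRing R] in
lemma Ψ_bijective (k : ℕ) : Function.Bijective (Ψ eK k) := by
  classical
  let pr : Fin k → (ModuleCat.of R (Fin k → R) ⟶ ModuleCat.of R R) := fun i =>
    ModuleCat.ofHom (LinearMap.proj (R := R) (φ := fun _ : Fin k => R) i)
  let ι : Fin k → (ModuleCat.of R R ⟶ ModuleCat.of R (Fin k → R)) := fun i =>
    ModuleCat.ofHom (LinearMap.single R (fun _ : Fin k => R) i)
  have hid : (𝟙 (ModuleCat.of R (Fin k → R))) = ∑ i, pr i ≫ ι i := by
    refine ModuleCat.hom_ext (LinearMap.ext fun v => funext fun j => ?_)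
    rw [ModuleCat.hom_sum, LinearMap.sum_apply, Finset.sum_apply]
    simp [pr, ι, Pi.single_apply]
  refine ⟨(injective_iff_map_eq_zero _).2 fun w hw => ?_, fun ψ => ?_⟩
  · have h0 : ∀ i, (localCohomology 𝔪 n).map (pr i) w = 0 := fun i => by
      refine eK.symm.map_eq_zero_iff.1 (LinearMap.ext fun x => ?_)
      have h := LinearMap.congr_fun hw ((LinearMap.proj (R := R) (φ := fun _ : Fin k => R) i).smulRight x)
      rw [Ψ_apply, Finset.sum_eq_single i] at h
      · simpa using h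
      · intro j _ hj
        simp [Pi.single_eq_of_ne (Ne.symm hj)]
      · exact fun hi => absurd (Finset.mem_univ i) hi
    calc w = (localCohomology 𝔪 n).map (∑ i, pr i ≫ ι i) w := by
          rw [← hid, CategoryTheory.Functor.map_id]; rfl
      _ = 0 := by
          rw [map_sum_H]
          refine Finset.sum_eq_zero fun i _ => ?_
          rw [Functor.map_comp, ModuleCat.comp_apply, h0, map_zero]
  · let v : Fin k → LocCoh.H 𝔪 n R := fun i =>
      eK (ψ ∘ₗ LinearMap.smulRightₗ (LinearMap.proj (R := R) (φ := fun _ : Fin k => R) i))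
    refine ⟨∑ i, (localCohomology 𝔪 n).map (ι i) (v i), LinearMap.ext fun φ => ?_⟩
    have h1 : ∀ j, (localCohomology 𝔪 n).map (pr j) (∑ i, (localCohomology 𝔪 n).map (ι i) (v i)) = v j := fun j => by
      rw [map_sum, Finset.sum_eq_single j]
      · rw [← ModuleCat.comp_apply, ← Functor.map_comp, show ι j ≫ pr j = 𝟙 _ from
          ModuleCat.hom_ext (LinearMap.ext_ring (by simp [pr, ι])), CategoryTheory.Functor.map_id]
        rfl
      · intro i _ hij
        rw [← ModuleCat.comp_apply, ← Functor.map_comp, show ι i ≫ pr j = (0 : R) • 𝟙 (ModuleCat.of R R) from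
          ModuleCat.hom_ext (LinearMap.ext_ring (by simp [pr, ι, Pi.single_eq_of_ne (Ne.symm hij)]))]
        exact (LocCohLib.map_smul_H 𝔪 n (0 : R) (𝟙 (ModuleCat.of R R)) (v i)).trans (zero_smul R _)
      · exact fun hj => absurd (Finset.mem_univ j) hj
    rw [Ψ_apply, Finset.sum_congr rfl fun j _ => by rw [h1 j]]
    simp only [v, LinearEquiv.symm_apply_apply, LinearMap.comp_apply]
    rw [← map_sum]
    congr 1
    refine LinearMap.pi_ext' fun i => LinearMap.ext_ring ?_
    simp [Pi.single_apply]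


/-- The pairing attached to a trace `ε`. -/
noncomputable def pair (ε : Hm n (ModuleCat.of R K) →ₗ[R] E) (M : ModuleCat.{u} R) :
    Hm n M →ₗ[R] ((M →ₗ[R] K) →ₗ[R] E) where
  toFun w :=
    { toFun := fun φ => ε ((localCohomology 𝔪 n).map (ModuleCat.ofHom (Y := K) φ) w)
      map_add' := fun φ ψ => (congrArg ε (LocCohLib.map_add_H 𝔪 n (ModuleCat.ofHom (Y := K) φ) (ModuleCat.ofHom (Y := K) ψ) w)).trans (map_add ε _ _)
      map_smul' := fun c φ => (congrArg ε (LocCohLib.map_smul_H 𝔪 n c (ModuleCat.ofHom (Y := K) φ) w)).trans (map_smul ε _ _) }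
  map_add' w v := LinearMap.ext fun φ =>
    (congrArg ε (map_add ((localCohomology 𝔪 n).map (ModuleCat.ofHom (Y := K) φ)).hom w v)).trans (map_add ε _ _)
  map_smul' c w := LinearMap.ext fun φ =>
    (congrArg ε (map_smul ((localCohomology 𝔪 n).map (ModuleCat.ofHom (Y := K) φ)).hom c w)).trans (map_smul ε _ _)

omit [IsNoetherianRing R] in
theorem pair_natural (ε : Hm n (ModuleCat.of R K) →ₗ[R] E) {M N : ModuleCat.{u} R} (f : M ⟶ N) (w : Hm n M)
    (φ : N →ₗ[R] K) : pair ε N ((localCohomology 𝔪 n).map f w) φ = pair ε M w (φ ∘ₗ f.hom) := by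
  show ε ((localCohomology 𝔪 n).map (ModuleCat.ofHom (Y := K) φ) ((localCohomology 𝔪 n).map f w)) = _
  rw [← ModuleCat.comp_apply, ← Functor.map_comp]
  rfl

/-- The trace `H^n_m(K) → E`. -/
theorem exists_eps (hn : ringKrullDim R = n) [Module.Finite R K] :
    ∃ ε : Hm n (ModuleCat.of R K) →ₗ[R] E, ∀ (k : ℕ) (φ : (Fin k → R) →ₗ[R] K)
      (w : Hm n (ModuleCat.of R (Fin k → R))), ε ((localCohomology 𝔪 n).map (ModuleCat.ofHom φ) w) = Ψ eK k w φ := by
  classical
  obtain ⟨k, π, hπ⟩ := Module.Finite.exists_fin' R K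
  haveI : Module.Finite R (LinearMap.ker π) := Module.Finite.iff_fg.2 (IsNoetherian.noetherian _)
  obtain ⟨l, σ, hσ⟩ := Module.Finite.exists_fin' R (LinearMap.ker π)
  let C : ShortComplex (ModuleCat.{u} R) :=
    ShortComplex.mk (X₁ := ModuleCat.of R (LinearMap.ker π)) (X₂ := ModuleCat.of R (Fin k → R)) (X₃ := ModuleCat.of R K)
      (ModuleCat.ofHom (LinearMap.ker π).subtype) (ModuleCat.ofHom π)
      (ModuleCat.hom_ext (LinearMap.ext fun x => x.2))
  have hC : C.ShortExact :=
    { exact := (ShortComplex.ShortExact.moduleCat_exact_iff_function_exact _).2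
        (LinearMap.exact_subtype_ker_map π)
      mono_f := (ModuleCat.mono_iff_injective _).2 Subtype.val_injective
      epi_g := (ModuleCat.epi_iff_surjective _).2 hπ }
  let h := ((localCohomology 𝔪 n).map (ModuleCat.ofHom π)).hom
  have hh : Function.Surjective h := map_surjective hn.le (ModuleCat.ofHom π) hπ
  let Φ : Hm n (ModuleCat.of R (Fin k → R)) →ₗ[R] E := LinearMap.applyₗ π ∘ₗ Ψ eK k
  have hle : LinearMap.ker h ≤ LinearMap.ker Φ := fun w hw => by
    obtain ⟨v, rfl⟩ := LocCohLib.exact₂ hC w hw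
    obtain ⟨u', rfl⟩ := map_surjective hn.le (M := ModuleCat.of R (Fin l → R)) (N := C.X₁)
      (ModuleCat.ofHom σ) hσ v
    rw [LinearMap.mem_ker, ← ModuleCat.comp_apply, ← Functor.map_comp]
    refine (Ψ_natural eK ((LinearMap.ker π).subtype ∘ₗ σ) u' π).trans ?_
    rw [show π ∘ₗ ((LinearMap.ker π).subtype ∘ₗ σ) = 0 from LinearMap.ext fun y => (σ y).2, map_zero]
  refine ⟨(LinearMap.ker h).liftQ Φ hle ∘ₗ (LinearMap.quotKerEquivOfSurjective h hh).symm.toLinearMap,
    fun j φ w => ?_⟩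
  choose t ht using fun i : Fin j => hπ (φ (Pi.single i 1))
  let T : (Fin j → R) →ₗ[R] (Fin k → R) := Fintype.linearCombination R t
  have hT : φ = π ∘ₗ T := LinearMap.pi_ext' fun i => LinearMap.ext_ring (by
    simp [T, Fintype.linearCombination_apply_single, ht])
  rw [hT, show ModuleCat.ofHom (π ∘ₗ T) = ModuleCat.ofHom T ≫ ModuleCat.ofHom π from rfl, Functor.map_comp,
    ModuleCat.comp_apply, LinearMap.comp_apply]
  show (LinearMap.ker h).liftQ Φ hle ((LinearMap.quotKerEquivOfSurjective h hh).symm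
    (h ((localCohomology 𝔪 n).map (ModuleCat.ofHom T) w))) = _
  rw [LinearMap.quotKerEquivOfSurjective_symm_apply, Submodule.liftQ_apply]
  exact Ψ_natural eK T w π

/-- The pairing is bijective for finite modules. -/
theorem bijective_pair (hn : ringKrullDim R = n) (hE : Module.Injective R E) {ε : Hm n (ModuleCat.of R K) →ₗ[R] E}
    (hε : ∀ (k : ℕ) (φ : (Fin k → R) →ₗ[R] K) (w : Hm n (ModuleCat.of R (Fin k → R))),
      ε ((localCohomology 𝔪 n).map (ModuleCat.ofHom φ) w) = Ψ eK k w φ)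
    (M : ModuleCat.{u} R) [Module.Finite R M] : Function.Bijective (pair ε M) := by
  have hfree : ∀ k : ℕ, Function.Bijective (pair ε (ModuleCat.of R (Fin k → R))) := fun k => by
    have e : pair ε (ModuleCat.of R (Fin k → R)) = Ψ eK k := LinearMap.ext fun w => LinearMap.ext fun φ => hε k φ w
    rw [e]
    exact Ψ_bijective eK k
  obtain ⟨k, π, hπ⟩ := Module.Finite.exists_fin' R M
  let C : ShortComplex (ModuleCat.{u} R) :=
    ShortComplex.mk (X₁ := ModuleCat.of R (LinearMap.ker π)) (X₂ := ModuleCat.of R (Fin k → R)) (X₃ := M)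
      (ModuleCat.ofHom (LinearMap.ker π).subtype) (ModuleCat.ofHom (Y := M) π)
      (ModuleCat.hom_ext (LinearMap.ext fun x => x.2))
  have hC : C.ShortExact :=
    { exact := (ShortComplex.ShortExact.moduleCat_exact_iff_function_exact _).2
        (LinearMap.exact_subtype_ker_map π)
      mono_f := (ModuleCat.mono_iff_injective _).2 Subtype.val_injective
      epi_g := (ModuleCat.epi_iff_surjective _).2 hπ }
  haveI : Module.Finite R (LinearMap.ker π) := Module.Finite.iff_fg.2 (IsNoetherian.noetherian _)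
  obtain ⟨l, σ, hσ⟩ := Module.Finite.exists_fin' R (LinearMap.ker π)
  let g : (M →ₗ[R] K) →ₗ[R] ((Fin k → R) →ₗ[R] K) := LinearMap.lcomp R K π
  let f : ((Fin k → R) →ₗ[R] K) →ₗ[R] ((Fin l → R) →ₗ[R] K) := LinearMap.lcomp R K ((LinearMap.ker π).subtype ∘ₗ σ)
  have hg : Function.Injective g := fun a b h => LinearMap.ext fun m => by
    obtain ⟨x, rfl⟩ := hπ m
    exact LinearMap.congr_fun h x
  have hfg : LinearMap.ker f = LinearMap.range g := by
    refine le_antisymm (fun φ hφ => ?_) ?_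
    · have h0 : LinearMap.ker π ≤ LinearMap.ker φ := fun x hx => by
        obtain ⟨y, hy⟩ := hσ ⟨x, hx⟩
        have h1 : φ (σ y).1 = 0 := LinearMap.congr_fun hφ y
        rw [LinearMap.mem_ker]
        rwa [hy] at h1
      refine ⟨(LinearMap.ker π).liftQ φ h0 ∘ₗ (LinearMap.quotKerEquivOfSurjective π hπ).symm.toLinearMap,
        LinearMap.ext fun x => ?_⟩
      show (LinearMap.ker π).liftQ φ h0 ((LinearMap.quotKerEquivOfSurjective π hπ).symm (π x)) = φ x
      rw [LinearMap.quotKerEquivOfSurjective_symm_apply]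
      exact Submodule.liftQ_apply _ _ x
    · rintro _ ⟨φ, rfl⟩
      refine LinearMap.ext fun y => ?_
      show φ (π (σ y).1) = 0
      rw [LinearMap.mem_ker.1 (σ y).2, map_zero]
  have hsurjH := map_surjective hn.le C.g hπ
  refine ⟨(injective_iff_map_eq_zero _).2 fun w hw => ?_, fun ψ => ?_⟩
  · obtain ⟨w₀, rfl⟩ := hsurjH w
    let ψ₀ := pair ε C.X₂ w₀
    have h0 : LinearMap.range g ≤ LinearMap.ker ψ₀ := by
      rintro _ ⟨φ, rfl⟩
      exact (pair_natural ε C.g w₀ φ).symm.trans (LinearMap.congr_fun hw φ)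
    obtain ⟨ψ₁, hψ₁⟩ := hE.out ((LinearMap.ker f).liftQ f le_rfl)
      (by rw [← LinearMap.ker_eq_bot, Submodule.ker_liftQ_eq_bot _ _ _ le_rfl])
      ((LinearMap.ker f).liftQ ψ₀ (hfg ▸ h0))
    obtain ⟨w₁, hw₁⟩ := (hfree l).2 ψ₁
    let f' : ModuleCat.of R (Fin l → R) ⟶ C.X₂ := ModuleCat.ofHom ((LinearMap.ker π).subtype ∘ₗ σ)
    have hw₀ : (localCohomology 𝔪 n).map f' w₁ = w₀ := (hfree k).1 (LinearMap.ext fun φ => by
      refine (pair_natural ε f' w₁ φ).trans ?_
      rw [hw₁]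
      exact hψ₁ (Submodule.Quotient.mk φ))
    rw [← hw₀, ← ModuleCat.comp_apply, ← Functor.map_comp,
      show f' ≫ C.g = (0 : R) • (0 : ModuleCat.of R (Fin l → R) ⟶ M) from by
        rw [zero_smul]; exact ModuleCat.hom_ext (LinearMap.ext fun y => (σ y).2)]
    exact (LocCohLib.map_smul_H 𝔪 n (0 : R) _ w₁).trans (zero_smul R _)
  · obtain ⟨ψ₀, hψ₀⟩ := hE.out g hg ψ
    obtain ⟨w₀, hw₀⟩ := (hfree k).2 ψ₀
    refine ⟨(localCohomology 𝔪 n).map C.g w₀, LinearMap.ext fun φ => ?_⟩
    rw [pair_natural, hw₀]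
    exact hψ₀ φ

end Groth.Agent.CanonMod
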