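import Groth.Agent.CanonMod.InjDim

/-!
Regular elements on a Cohen–Macaulay local ring and on its canonical module.
-/

set_option autoImplicit false
set_option linter.style.haveILetI false
set_option linter.unusedVariables false
universe u

open CategoryTheory CategoryTheory.Limits
open CategoryTheory.Abelian (Ext)
open scoped Pointwise

namespace Groth.Agent.CanonMod

variable {R : Type u} [CommRing R] [LocCoh.IsCohenMacaulayLocalRing R]

local notation "𝔪" => IsLocalRing.maximalIdeal R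

omit [LocCoh.IsCohenMacaulayLocalRing R] in
theorem lt_of_add_one_eq {x : WithBot ℕ∞} {n : ℕ} (h : x + 1 = (n : WithBot ℕ∞)) : x < (n : WithBot ℕ∞) := by
  refine lt_of_not_ge fun hle => ?_
  have h1 : ((n : WithBot ℕ∞) + 1) ≤ (n : WithBot ℕ∞) := (add_le_add hle le_rfl).trans h.le
  norm_cast at h1
  omega

variable {n : ℕ} (hn : ringKrullDim R = n)
include hn

theorem dim_quotient_lt {a : R} (ha : a ∈ 𝔪) (hreg : IsSMulRegular R a) :
    ringKrullDim (R ⧸ Ideal.span {a}) < n :=
  lt_of_add_one_eq ((ringKrullDim_quotient_span_singleton_succ_eq_ringKrullDim hreg ha).trans hn)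

variable {E : Type u} [AddCommGroup E] [Module R E]
  {f : IsLocalRing.ResidueField R →ₗ[R] E} (hf : InjHull.IsInjectiveHull f) {K : Type u}
  [AddCommGroup K] [Module R K] [Module.Finite R K]
  (eK : (K →ₗ[R] E) ≃ₗ[R] LocCoh.H (IsLocalRing.maximalIdeal R) n R)
include hf eK

theorem regular_canon {a : R} (ha : a ∈ 𝔪) (hreg : IsSMulRegular R a) : IsSMulRegular K a :=
  isSMulRegular_of_dim_lt hn hf eK a (dim_quotient_lt hn ha hreg)

theorem subsingleton_ext_one : Subsingleton (Ext (ModuleCat.of R K) (ModuleCat.of R K) 1) := by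
  rcases Nat.eq_zero_or_pos n with h | h
  · subst h
    exact subsingleton_ext_succ hn hf eK (ModuleCat.of R K)
  · exact subsingleton_ext_of_H hn hf eK (ModuleCat.of R K) (Nat.sub_add_cancel h)
      (subsingleton_H_canon hn hf eK (Nat.sub_lt h Nat.one_pos))

theorem exists_lift {a : R} (ha : a ∈ 𝔪) (hreg : IsSMulRegular R a)
    (φ : K →ₗ[R] K ⧸ (a • (⊤ : Submodule R K))) :
    ∃ g : K →ₗ[R] K, (a • (⊤ : Submodule R K)).mkQ ∘ₗ g = φ := by
  let C : ShortComplex (ModuleCat.{u} R) := ShortComplex.mk (X₁ := ModuleCat.of R K) (X₂ := ModuleCat.of R K)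
    (X₃ := ModuleCat.of R (K ⧸ (a • (⊤ : Submodule R K))))
    (ModuleCat.ofHom (a • LinearMap.id)) (ModuleCat.ofHom (a • (⊤ : Submodule R K)).mkQ)
    (ModuleCat.hom_ext (LinearMap.ext fun x => (Submodule.Quotient.mk_eq_zero _).2
      (Submodule.smul_mem_pointwise_smul x a ⊤ trivial)))
  have hC : C.ShortExact :=
    { exact := (ShortComplex.moduleCat_exact_iff _).2 fun x hx => by
        obtain ⟨y, -, rfl⟩ := (Submodule.Quotient.mk_eq_zero _).1 hx
        exact ⟨y, rfl⟩
      mono_f := (ModuleCat.mono_iff_injective _).2 fun x y h => regular_canon hn hf eK ha hreg h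
      epi_g := (ModuleCat.epi_iff_surjective _).2 (Submodule.mkQ_surjective _) }
  haveI := subsingleton_ext_one hn hf eK
  obtain ⟨x₂, hx₂⟩ := Ext.covariant_sequence_exact₃ (ModuleCat.of R K) hC (Ext.mk₀ (ModuleCat.ofHom φ))
    (zero_add 1) (Subsingleton.elim (α := Ext (ModuleCat.of R K) (ModuleCat.of R K) 1) _ _)
  obtain ⟨g, rfl⟩ := (Ext.mk₀_bijective _ _).2 x₂
  rw [Ext.mk₀_comp_mk₀] at hx₂
  exact ⟨g.hom, congrArg ModuleCat.Hom.hom ((Ext.mk₀_bijective _ _).1 hx₂)⟩

end Groth.Agent.CanonMod
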