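import Groth.Agent.CanonMod.Regular
import Groth.Agent.DepthLib.Ischebeck

/-!
Regular sequences on a Cohen–Macaulay module and on its Matlis dual top local cohomology.
-/

set_option autoImplicit false
set_option linter.style.haveILetI false
set_option linter.unusedVariables false
universe u

open CategoryTheory
open scoped Pointwise

namespace Groth.Agent.CanonMod

variable {R : Type u} [CommRing R] [IsLocalRing R] [IsNoetherianRing R]

local notation "𝔪" => IsLocalRing.maximalIdeal R

omit [IsLocalRing R] [IsNoetherianRing R] in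
theorem exists_eq_succ {x : WithBot ℕ∞} {d : ℕ} (h : x + 1 = (d : WithBot ℕ∞)) :
    ∃ d', d = d' + 1 ∧ x = (d' : WithBot ℕ∞) := by
  induction x with
  | bot => simp at h
  | coe y =>
    induction y with
    | top => simp at h; exact absurd (WithBot.coe_injective (a₁ := (⊤ : ℕ∞)) (a₂ := (d : ℕ∞)) h) (ENat.top_ne_coe d)
    | coe m =>
      refine ⟨m, ?_, rfl⟩
      norm_cast at h
      exact h.symm

/-- Top local cohomology is right exact on modules of bounded dimension. -/
theorem map_mkQ_surjective {Q : Type u} [AddCommGroup Q] [Module R Q] {d : ℕ}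
    (hd : Module.supportDim R Q ≤ d) (N : Submodule R Q) :
    Function.Surjective ((localCohomology 𝔪 d).map (ModuleCat.ofHom N.mkQ)) := by
  let C : ShortComplex (ModuleCat.{u} R) := ShortComplex.mk (ModuleCat.ofHom N.subtype) (ModuleCat.ofHom N.mkQ)
    (ModuleCat.hom_ext (LinearMap.ext fun z => (Submodule.Quotient.mk_eq_zero _).2 z.2))
  have hC : C.ShortExact :=
    { exact := (ShortComplex.ShortExact.moduleCat_exact_iff_function_exact _).2 (LinearMap.exact_subtype_mkQ _)
      mono_f := (ModuleCat.mono_iff_injective _).2 Subtype.val_injective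
      epi_g := (ModuleCat.epi_iff_surjective _).2 (Submodule.mkQ_surjective _) }
  haveI := subsingleton_Hm (M := N) (i := d + 1)
    (((Module.supportDim_le_of_injective N.subtype Subtype.val_injective).trans hd).trans_lt
      (by exact_mod_cast d.lt_succ_self))
  exact fun w => LocCohLib.exact₃ hC w (Subsingleton.elim (α := Hm (d + 1) (ModuleCat.of R N)) _ _)

variable {E : Type u} [AddCommGroup E] [Module R E] {f : IsLocalRing.ResidueField R →ₗ[R] E}
  (hf : InjHull.IsInjectiveHull f) {Q : Type u} [AddCommGroup Q] [Module R Q] [Module.Finite R Q]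
  {L : Type u} [AddCommGroup L] [Module R L] {d : ℕ}
  (hd : Module.supportDim R Q = d) (hQ : ∀ i < d, Subsingleton (Hm i (ModuleCat.of R Q)))
  (e : (L →ₗ[R] E) ≃ₗ[R] Hm d (ModuleCat.of R Q)) {a : R} (ha : a ∈ IsLocalRing.maximalIdeal R)
include hf hd hQ e ha

theorem isSMulRegular_iff : IsSMulRegular Q a ↔ IsSMulRegular L a := by
  constructor
  · intro hreg
    obtain ⟨d', hdd, hd'⟩ := exists_eq_succ ((Module.supportDim_quotSMulTop_succ_eq_supportDim hreg ha).trans hd)
    have hlt : Module.supportDim R (Q ⧸ LinearMap.range (a • LinearMap.id : Q →ₗ[R] Q)) < d := by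
      rw [Module.supportDim_eq_of_equiv (Submodule.quotEquivOfEq (LinearMap.range (a • LinearMap.id : Q →ₗ[R] Q))
        (a • (⊤ : Submodule R Q)) ((LinearMap.range_eq_map _).trans rfl))]
      refine hd'.trans_lt ?_
      exact_mod_cast (show d' < d by omega)
    refine isSMulRegular_of_dual_surjective hf a fun φ => ?_
    obtain ⟨z, hz⟩ := smul_surjective Q hd.le a hlt (e φ)
    exact ⟨e.symm z, by rw [← map_smul]; exact (congrArg e.symm hz).trans (e.symm_apply_apply φ)⟩
  · intro hreg
    by_contra hn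
    rw [isSMulRegular_iff_right_eq_zero_of_smul] at hn
    push Not at hn
    obtain ⟨x, hax, hx⟩ := hn
    have hmem : a ∈ ⋃ p ∈ associatedPrimes R Q, (p : Set R) := by
      rw [biUnion_associatedPrimes_eq_zero_divisors]
      exact ⟨x, hx, hax⟩
    obtain ⟨p, hp, hap⟩ := Set.mem_iUnion₂.1 hmem
    haveI := IsAssociatedPrime.isPrime hp
    have hpd : ((d : ℕ) : WithBot ℕ∞) ≤ ringKrullDim (R ⧸ p) := by
      refine le_trans ?_ (DepthLib.depth_le_ringKrullDim_quotient hp)
      exact WithBot.coe_le_coe.2 ((LocCohLib.natCast_le_idealDepth_iff_vanishing 𝔪 Q d).2 hQ)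
    have hsupp : (⟨p, inferInstance⟩ : PrimeSpectrum R) ∈ Module.support R (QuotSMulTop a Q) := by
      rw [Module.support_quotSMulTop]
      refine ⟨?_, fun b hb => ?_⟩
      · rw [Module.mem_support_iff_of_finite]
        rw [← Submodule.annihilator_top]
        exact hp.annihilator_le
      · rw [Set.mem_singleton_iff.1 hb]
        exact hap
    have hdim : Module.supportDim R (QuotSMulTop a Q) = d := by
      refine le_antisymm ((Module.supportDim_le_of_surjective (Submodule.mkQ _) (Submodule.mkQ_surjective _)).trans hd.le) ?_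
      refine hpd.trans ?_
      rw [Module.supportDim_eq_ringKrullDim_quotient_annihilator]
      exact ringKrullDim_le_of_surjective (Ideal.Quotient.factor (Module.mem_support_iff_of_finite.1 hsupp))
        (Ideal.Quotient.factor_surjective _)
    haveI := LocCohLib.nontrivial_H_supportDim (ModuleCat.of R (QuotSMulTop a Q)) d hdim
    refine not_subsingleton (Hm d (ModuleCat.of R (QuotSMulTop a Q))) (subsingleton_of_forall_eq 0 fun w => ?_)
    obtain ⟨v, rfl⟩ := map_mkQ_surjective hd.le (a • (⊤ : Submodule R Q)) w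
    let m : L →ₗ[R] L := a • LinearMap.id
    obtain ⟨φ, hφ⟩ := hf.isInjective.out m hreg (e.symm v)
    have hv : v = a • e φ := by
      rw [← map_smul, ← e.symm_apply_eq]
      exact LinearMap.ext fun l => (hφ l).symm.trans (map_smul φ a l)
    rw [hv, map_smul]
    exact LocCohLib.smul_eq_zero_of_smul_eq_zero (fun z => by
      obtain ⟨z, rfl⟩ := Submodule.Quotient.mk_surjective _ z
      exact (Submodule.Quotient.mk_eq_zero _).2 (Submodule.smul_mem_pointwise_smul z a ⊤ trivial)) d _

/-- Killing a regular element. -/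
theorem step (hreg : IsSMulRegular Q a) : ∃ d', d = d' + 1 ∧ Module.supportDim R (QuotSMulTop a Q) = d' ∧
    (∀ i < d', Subsingleton (Hm i (ModuleCat.of R (QuotSMulTop a Q)))) ∧
    Nonempty ((QuotSMulTop a L →ₗ[R] E) ≃ₗ[R] Hm d' (ModuleCat.of R (QuotSMulTop a Q))) := by
  obtain ⟨d', rfl, hd'⟩ := exists_eq_succ ((Module.supportDim_quotSMulTop_succ_eq_supportDim hreg ha).trans hd)
  let C : ShortComplex (ModuleCat.{u} R) := ShortComplex.mk (X₁ := ModuleCat.of R Q) (X₂ := ModuleCat.of R Q)
    (X₃ := ModuleCat.of R (QuotSMulTop a Q))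
    (a • 𝟙 (ModuleCat.of R Q)) (ModuleCat.ofHom (a • (⊤ : Submodule R Q)).mkQ)
    (ModuleCat.hom_ext (LinearMap.ext fun z => (Submodule.Quotient.mk_eq_zero _).2
      (Submodule.smul_mem_pointwise_smul z a ⊤ trivial)))
  have hC : C.ShortExact :=
    { exact := (ShortComplex.moduleCat_exact_iff _).2 fun z hz => by
        obtain ⟨y, -, rfl⟩ := (Submodule.Quotient.mk_eq_zero _).1 hz
        exact ⟨y, rfl⟩
      mono_f := (ModuleCat.mono_iff_injective _).2 fun x y h => hreg h
      epi_g := (ModuleCat.epi_iff_surjective _).2 (Submodule.mkQ_surjective _) }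
  have hmul : ∀ j (z : Hm j (ModuleCat.of R Q)), (localCohomology 𝔪 j).map C.f z = a • z := fun j z => by
    refine (LocCohLib.map_smul_H 𝔪 j a (𝟙 (ModuleCat.of R Q)) z).trans ?_
    rw [CategoryTheory.Functor.map_id]
    rfl
  refine ⟨d', rfl, hd', fun i hi => subsingleton_of_forall_eq 0 fun w => ?_, ?_⟩
  · haveI := hQ (i + 1) (by omega)
    obtain ⟨v, rfl⟩ := LocCohLib.exact₃ hC w (Subsingleton.elim (α := Hm (i + 1) (ModuleCat.of R Q)) _ _)
    haveI := hQ i (by omega)
    exact (congrArg _ (Subsingleton.elim (α := Hm i (ModuleCat.of R Q)) v 0)).trans (map_zero _)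
  let δ' := LocCohLib.δ hC 𝔪 d'
  have hδ : Function.Injective δ' := (injective_iff_map_eq_zero _).2 fun w hw => by
    obtain ⟨v, rfl⟩ := LocCohLib.exact₃ hC w hw
    haveI := hQ d' (by omega)
    exact (congrArg _ (Subsingleton.elim (α := Hm d' (ModuleCat.of R Q)) v 0)).trans (map_zero _)
  let Φ : (QuotSMulTop a L →ₗ[R] E) →ₗ[R] Hm (d' + 1) (ModuleCat.of R Q) :=
    e.toLinearMap ∘ₗ LinearMap.lcomp R E (a • (⊤ : Submodule R L)).mkQ
  have hΦ : Function.Injective Φ := fun φ ψ h => Submodule.linearMap_qext _ (e.injective h)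
  have hr : LinearMap.range Φ = LinearMap.range δ' := by
    refine le_antisymm ?_ ?_
    · rintro _ ⟨φ, rfl⟩
      obtain ⟨v, hv⟩ := LocCohLib.exact₁ hC (Φ φ) (by
        rw [hmul]
        refine (map_smul e a _).symm.trans (e.map_eq_zero_iff.2 (LinearMap.ext fun l => ?_))
        show a • φ (Submodule.Quotient.mk l) = 0
        rw [← map_smul, ← Submodule.Quotient.mk_smul,
          (Submodule.Quotient.mk_eq_zero _).2 (Submodule.smul_mem_pointwise_smul l a ⊤ trivial), map_zero])
      exact ⟨v, hv⟩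
    · rintro _ ⟨v, rfl⟩
      have h0 : a • e.symm (δ' v) = 0 := by
        rw [← map_smul]
        refine e.symm.map_eq_zero_iff.2 ((hmul _ _).symm.trans ?_)
        exact LocCohLib.map_δ_eq_zero hC v
      have hle : a • (⊤ : Submodule R L) ≤ LinearMap.ker (e.symm (δ' v)) := by
        rintro _ ⟨l, -, rfl⟩
        exact (map_smul (e.symm (δ' v)) a l).trans (LinearMap.congr_fun h0 l)
      refine ⟨(a • (⊤ : Submodule R L)).liftQ (e.symm (δ' v)) hle, ?_⟩
      · show e ((Submodule.liftQ _ _ hle) ∘ₗ (a • (⊤ : Submodule R L)).mkQ) = _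
        rw [Submodule.liftQ_mkQ, LinearEquiv.apply_symm_apply]
  exact ⟨(LinearEquiv.ofInjective Φ hΦ).trans ((LinearEquiv.ofEq _ _ hr).trans (LinearEquiv.ofInjective δ' hδ).symm)⟩

omit [Module.Finite R Q] hf hd hQ e ha in
theorem seq_iff (hf : InjHull.IsInjectiveHull f) : ∀ (as : List R), (∀ a ∈ as, a ∈ 𝔪) →
    ∀ (Q : Type u) [AddCommGroup Q] [Module R Q] [Module.Finite R Q] (L : Type u) [AddCommGroup L] [Module R L] (d : ℕ),
    Module.supportDim R Q = d → (∀ i < d, Subsingleton (Hm i (ModuleCat.of R Q))) →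
    ((L →ₗ[R] E) ≃ₗ[R] Hm d (ModuleCat.of R Q)) →
    (RingTheory.Sequence.IsWeaklyRegular Q as ↔ RingTheory.Sequence.IsWeaklyRegular L as) ∧
    (RingTheory.Sequence.IsWeaklyRegular Q as →
      Nonempty (((L ⧸ (Ideal.ofList as • (⊤ : Submodule R L))) →ₗ[R] E) ≃ₗ[R]
        Hm (d - as.length) (ModuleCat.of R (Q ⧸ (Ideal.ofList as • (⊤ : Submodule R Q)))))) := by
  intro as
  induction as with
  | nil =>
    intro has Q _ _ _ L _ _ d hd hQ e
    refine ⟨⟨fun _ => RingTheory.Sequence.IsWeaklyRegular.nil R L, fun _ => RingTheory.Sequence.IsWeaklyRegular.nil R Q⟩, fun _ => ?_⟩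
    exact ⟨((Submodule.quotEquivOfEqBot _ (by rw [Ideal.ofList_nil, Submodule.bot_smul])).arrowCongr (LinearEquiv.refl R E)).trans
      (e.trans ((localCohomology 𝔪 d).mapIso (LinearEquiv.toModuleIso
        (Submodule.quotEquivOfEqBot (Ideal.ofList [] • (⊤ : Submodule R Q)) (by rw [Ideal.ofList_nil, Submodule.bot_smul])).symm)).toLinearEquiv)⟩
  | cons a as ih =>
    intro has Q _ _ _ L _ _ d hd hQ e
    have ha := has a List.mem_cons_self
    rw [RingTheory.Sequence.isWeaklyRegular_cons_iff, RingTheory.Sequence.isWeaklyRegular_cons_iff,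
      ← isSMulRegular_iff hf hd hQ e ha]
    by_cases hreg : IsSMulRegular Q a
    · obtain ⟨d', rfl, hd', hQ', ⟨e'⟩⟩ := step hf hd hQ e ha hreg
      obtain ⟨h1, h2⟩ := ih (fun b hb => has b (List.mem_cons_of_mem _ hb)) _ _ d' hd' hQ' e'
      refine ⟨and_congr_right' h1, fun h => ?_⟩
      obtain ⟨e''⟩ := h2 h.2
      rw [show d' + 1 - (a :: as).length = d' - as.length by simp]
      exact ⟨((Submodule.quotOfListConsSMulTopEquivQuotSMulTopInner L a as).arrowCongr (LinearEquiv.refl R E)).trans
        (e''.trans ((localCohomology 𝔪 (d' - as.length)).mapIso (LinearEquiv.toModuleIso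
          (Submodule.quotOfListConsSMulTopEquivQuotSMulTopInner Q a as).symm)).toLinearEquiv)⟩
    · exact ⟨⟨fun h => absurd h.1 hreg, fun h => absurd h.1 hreg⟩, fun h => absurd h.1 hreg⟩

end Groth.Agent.CanonMod
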